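import Cfsg.Agent.Lib.Core.Layer
import Cfsg.Agent.Lib.Core.Cores
import Cfsg.Agent.Lib.Core.Fitting
import Mathlib.GroupTheory.FixedPointFree
import Mathlib.GroupTheory.Nilpotent

/-!
# A solvable odd normal subgroup with a small fixed point group

An involution `t` acts on a solvable normal subgroup `M` of odd order with all fixed points in a
subgroup `W` of order prime to three, which contains Sylow subgroups of `M` for its primes. Then on
each Fitting component `t` is trivial or inverts, so `[M, t]` lies in the Fitting subgroup; if there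
is no normal three-subgroup then three does not divide the order of `M`.
-/

set_option autoImplicit false
set_option linter.unusedSectionVars false

namespace Cfsg.Lib.ReeTwoTrans

open Subgroup Cfsg

universe u

variable {Q : Type u} [Group Q] [Finite Q]

theorem not_three_dvd_kernel {t : Q} (ht : t * t = 1) (M : Subgroup Q) [M.Normal]
    [Group.IsSolvable M] (hodd : Odd (Nat.card M)) (W : Subgroup Q) (hWM : W ≤ M)
    (hC : ∀ x ∈ M, x * t = t * x → x ∈ W) (hWt : ∀ x ∈ W, x * t = t * x)
    (hW3 : ¬ 3 ∣ Nat.card W)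
    (hWr : ∀ r : ℕ, r.Prime → r ∣ Nat.card W →
      (Nat.card M).factorization r ≤ (Nat.card W).factorization r)
    (h3 : pCore 3 Q = ⊥) : ¬ 3 ∣ Nat.card M := by
  classical
  intro hd
  haveI : Fact (Nat.Prime 3) := ⟨Nat.prime_three⟩
  have hti : t⁻¹ = t := inv_eq_of_mul_eq_one_right ht
  -- conjugation by `t` on `M`
  set τ : MulAut M := MulAut.conjNormal t with hτ
  have hτv : ∀ x : M, ((τ x : M) : Q) = t * x * t := fun x => by
    rw [hτ, MulAut.conjNormal_apply, hti]
  have hττ : ∀ x : M, τ (τ x) = x := fun x => Subtype.ext (by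
    rw [hτv, hτv, ← mul_assoc, ← mul_assoc, ht, one_mul, mul_assoc, ht, mul_one])
  have hfix : ∀ x : M, τ x = x → (x : Q) ∈ W := fun x hx => hC _ x.2 (by
    have h := congrArg Subtype.val hx
    rw [hτv] at h
    calc (x : Q) * t = t * x * t * t := by rw [h]
      _ = t * x := by rw [mul_assoc, ht, mul_one])
  have hfix' : ∀ x : M, (x : Q) ∈ W → τ x = x := fun x hx => Subtype.ext (by
    rw [hτv, ← hWt _ hx, mul_assoc, ht, mul_one])
  -- the components
  have hcomp : ∀ r : ℕ, r.Prime → ∀ x ∈ pCore r M, (τ x = x) ∨ (∀ y ∈ pCore r M, τ y = y⁻¹) := by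
    intro r hr x hx
    haveI : Fact r.Prime := ⟨hr⟩
    by_cases hrW : r ∣ Nat.card W
    · left
      obtain ⟨R⟩ : Nonempty (Sylow r W) := inferInstance
      have hR : Nat.card (R : Subgroup W) = r ^ (Nat.card M).factorization r := by
        rw [R.card_eq_multiplicity]
        refine congrArg _ (le_antisymm ?_ (hWr r hr hrW))
        exact (Nat.factorization_le_iff_dvd Nat.card_pos.ne' Nat.card_pos.ne').2
          (card_dvd_of_le hWM) r
      set R' : Subgroup M := (R : Subgroup W).map (inclusion hWM) with hR'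
      have hR'c : Nat.card R' = r ^ (Nat.card M).factorization r := by
        rw [← hR]
        exact (Nat.card_congr ((R : Subgroup W).equivMapOfInjective (inclusion hWM)
          (inclusion_injective hWM)).toEquiv).symm
      obtain ⟨w, -, hwx⟩ := Cfsg.Lib.Core.pCore_le_sylow (Sylow.ofCard R' hR'c) hx
      refine hfix' x ?_
      rw [← hwx]
      exact w.2
    · right
      have hP : IsPGroup r (pCore r M) := Cfsg.Lib.Core.pCore_isPGroup r M
      have hmem : ∀ y ∈ pCore r M, τ y ∈ pCore r M := fun y hy =>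
        (Cfsg.Lib.Core.map_pCore_equiv (p := r) τ).le ⟨y, hy, rfl⟩
      let φ : pCore r M →* pCore r M :=
        { toFun := fun y => ⟨τ y, hmem y y.2⟩
          map_one' := Subtype.ext (map_one τ)
          map_mul' := fun a b => Subtype.ext (map_mul τ (a : M) b) }
      have hfp : MonoidHom.FixedPointFree φ := fun y hy => by
        have hyW := hfix y (congrArg Subtype.val hy)
        obtain ⟨k, hk⟩ := IsPGroup.iff_orderOf.1 hP y
        have h1 : orderOf (y : pCore r M) ∣ Nat.card W := by
          rw [← orderOf_coe, ← orderOf_coe]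
          exact W.orderOf_dvd_natCard hyW
        rw [hk] at h1
        cases k with
        | zero => rwa [pow_zero, orderOf_eq_one_iff] at hk
        | succ k => exact absurd ((dvd_pow_self r (Nat.succ_ne_zero k)).trans h1) hrW
      have h := hfp.coe_eq_inv_of_involutive fun y => Subtype.ext (hττ y)
      intro y hy
      exact congrArg Subtype.val (congrFun h ⟨y, hy⟩)
  -- the Fitting subgroup
  set F := fittingSubgroup M with hF
  have hcen : ∀ y : M, y⁻¹ * τ y ∈ F := by
    intro y
    refine Cfsg.Lib.Core.centralizer_fitting_le_of_isSolvable ?_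
    rw [Cfsg.Lib.Core.fittingSubgroup_eq_iSup_pCore]
    rw [mem_centralizer_iff]
    suffices hle : (⨆ p : Nat.Primes, pCore (p : ℕ) M) ≤ centralizer ({y⁻¹ * τ y} : Set M) by
      intro h hh
      exact mem_centralizer_singleton_iff.1 (hle hh)
    refine iSup_le fun r x hx => mem_centralizer_singleton_iff.2 ?_
    have hyx : y * x * y⁻¹ ∈ pCore (r : ℕ) M :=
      (inferInstance : (pCore (r : ℕ) M).Normal).conj_mem x hx y
    -- on `x` and on its conjugate the involution acts in the same way
    have key : τ y * x * (τ y)⁻¹ = y * x * y⁻¹ := by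
      by_cases hall : ∀ z ∈ pCore (r : ℕ) M, τ z = z
      · calc τ y * x * (τ y)⁻¹ = τ (y * x * y⁻¹) := by
              rw [map_mul, map_mul, map_inv, hall x hx]
          _ = y * x * y⁻¹ := hall _ hyx
      · push Not at hall
        obtain ⟨z, hz, hzne⟩ := hall
        have hinv := (hcomp r r.2 z hz).resolve_left hzne
        have h1 : τ (y * x * y⁻¹) = (y * x * y⁻¹)⁻¹ := hinv _ hyx
        rw [map_mul, map_mul, map_inv, hinv x hx] at h1
        have h2 := congrArg (·⁻¹) h1
        simpa [mul_assoc] using h2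
    calc x * (y⁻¹ * τ y) = y⁻¹ * (y * x * y⁻¹) * τ y := by group
      _ = y⁻¹ * (τ y * x * (τ y)⁻¹) * τ y := by rw [key]
      _ = y⁻¹ * τ y * x := by group
  -- no element of order three in the Fitting subgroup
  have hF3 : ¬ 3 ∣ Nat.card F := by
    intro h
    haveI : Group.IsNilpotent F := Cfsg.Lib.Core.fittingSubgroup_isNilpotent M
    obtain ⟨P⟩ : Nonempty (Sylow 3 F) := inferInstance
    haveI hPn : (P : Subgroup F).Normal :=
      Sylow.normal_of_normalizerCondition Group.normalizerCondition_of_isNilpotent P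
    haveI : (P : Subgroup F).Characteristic := Sylow.characteristic_of_normal P hPn
    have hle : ((P : Subgroup F).map F.subtype) ≤ pCore 3 M :=
      Cfsg.Lib.Core.le_pCore' (Cfsg.Lib.Core.normal_map_char_of_normal _) (P.2.map _)
    have hle2 : (pCore 3 M).map M.subtype ≤ pCore 3 Q :=
      Cfsg.Lib.Core.le_pCore' (Cfsg.Lib.Core.normal_map_char_of_normal _)
        ((Cfsg.Lib.Core.pCore_isPGroup 3 M).map _)
    rw [h3, le_bot_iff, map_eq_bot_iff_of_injective _ M.subtype_injective] at hle2
    rw [hle2, le_bot_iff, map_eq_bot_iff_of_injective _ F.subtype_injective] at hle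
    exact P.ne_bot_of_dvd_card h hle
  obtain ⟨y, hy⟩ := exists_prime_orderOf_dvd_card' 3 hd
  set f := y⁻¹ * τ y with hf
  have hfF : f ∈ F := hcen y
  have hτf : τ f = f⁻¹ := by rw [hf, map_mul, map_inv, hττ, mul_inv_rev, inv_inv]
  have hof : Odd (orderOf f) := hodd.of_dvd_nat (orderOf_dvd_natCard f)
  obtain ⟨j, hj⟩ := hof
  set s := f ^ (j + 1) with hs
  have hss : s * s = f := by
    rw [hs, ← pow_add, show j + 1 + (j + 1) = (2 * j + 1) + 1 by ring, pow_succ, ← hj,
      pow_orderOf_eq_one, one_mul]
  have hτs : τ s = s⁻¹ := by rw [hs, map_pow, hτf, inv_pow]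
  have hys : τ (y * s) = y * s := by
    rw [map_mul, hτs, show τ y = y * f by rw [hf]; group, ← hss, ← mul_assoc, mul_inv_cancel_right]
  have hW := hfix _ hys
  set π := QuotientGroup.mk' F
  have hπs : π s = 1 := (QuotientGroup.eq_one_iff s).2 (pow_mem hfF _)
  have hm : (π y) ^ Nat.card W = 1 := by
    have h1 : (y * s) ^ Nat.card W = 1 := by
      refine Subtype.ext ?_
      rw [SubgroupClass.coe_pow, OneMemClass.coe_one]
      exact congrArg (fun w : W => (w : Q)) (pow_card_eq_one' (x := (⟨_, hW⟩ : W)))
    have h2 := congrArg π h1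
    rwa [map_pow, map_mul, hπs, mul_one, map_one] at h2
  have h1 : (π y) ^ 3 = 1 := by rw [← map_pow, ← hy, pow_orderOf_eq_one, map_one]
  have hy1 : π y = 1 := by
    have := (pow_gcd_eq_one (a := π y) (m := 3) (n := Nat.card W)).2 ⟨h1, hm⟩
    rwa [(Nat.Prime.coprime_iff_not_dvd Nat.prime_three).2 hW3, pow_one] at this
  have hyF : y ∈ F := (QuotientGroup.eq_one_iff y).1 hy1
  exact hF3 (hy ▸ F.orderOf_dvd_natCard hyF)

end Cfsg.Lib.ReeTwoTrans
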