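import Cfsg.Agent.Lib.ReeType.Count
import Cfsg.Agent.Lib.ReeType.Three
import Cfsg.Agent.Lib.ReeTwoTrans.OddKernel
import Cfsg.Agent.S0205

/-!
# A Sylow three-subgroup normalized by an involution and a torus

In a group of Ree type and Ree order a maximal three-subgroup containing `U` and normalized by `t`
and the torus is a Sylow subgroup.
-/

set_option autoImplicit false
set_option linter.unusedSectionVars false
set_option linter.style.haveILetI false

namespace Cfsg.Lib.ReeTwoTrans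

open Subgroup Cfsg Cfsg.Lib.ReeType

universe u v

variable {G : Type u} {L : Type v} [Group G] [Group L] [Finite G] {n T : ℕ} (S : Setup G L n T)

/-- The number `(q - 1) / 2` and its properties. -/
theorem torus_facts : orderOf (S.φ S.D.a) = 2 * T - 1 ∧ 13 ≤ 2 * T - 1 ∧ Odd (2 * T - 1) ∧
    ¬ 3 ∣ 2 * T - 1 ∧ 2 * (2 * T - 1) = 3 ^ (2 * n + 1) - 1 := by
  have h := S.q_facts
  have hT := S.hT
  refine ⟨?_, by omega, Nat.odd_iff.2 (by omega), by omega, by omega⟩
  rw [orderOf_injective S.φ S.inj, S.D.orderOf_a]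

theorem t_comm_torus {x : G} (hx : x ∈ zpowers (S.φ S.D.a)) : x * S.t = S.t * x := by
  obtain ⟨k, rfl⟩ := mem_zpowers_iff.1 hx
  rw [← map_zpow]
  exact (S.comm _).symm

include S in
/-- The prime `r` dividing the torus divides the order of `G` as often as it divides the torus. -/
theorem torus_sylow (hord : Nat.card G = (3 ^ (2 * n + 1)) ^ 3 * ((3 ^ (2 * n + 1)) ^ 3 + 1) *
    (3 ^ (2 * n + 1) - 1)) {r : ℕ} (hr : r.Prime) (hd : r ∣ 2 * T - 1) :
    (Nat.card G).factorization r = (2 * T - 1).factorization r := by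
  obtain ⟨-, h13, hodd, h3, h2m⟩ := torus_facts S
  set m := 2 * T - 1 with hm
  set q := 3 ^ (2 * n + 1) with hq
  have hq1 : q = 2 * m + 1 := by have := Nat.one_le_pow (2 * n + 1) 3 (by omega); omega
  have hr2 : r ≠ 2 := by rintro rfl; rw [Nat.odd_iff] at hodd; omega
  have hrq : ¬ r ∣ q := fun h => by
    have h1 := Nat.le_of_dvd one_pos ((Nat.dvd_add_right (hd.mul_left 2)).1 (hq1 ▸ h))
    exact absurd h1 (by have := hr.two_le; omega)
  have hrq3 : ¬ r ∣ q ^ 3 := fun h => hrq (hr.dvd_of_dvd_pow h)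
  have hrp : ¬ r ∣ q ^ 3 + 1 := fun h => by
    have h1 : q ^ 3 + 1 = m * (8 * m * m + 12 * m + 6) + 2 := by rw [hq1]; ring
    rw [h1, Nat.dvd_add_right (hd.mul_right _)] at h
    exact hr2 ((Nat.prime_dvd_prime_iff_eq hr Nat.prime_two).1 h)
  rw [hord, show q - 1 = 2 * m by omega, Nat.factorization_mul (by positivity) (by omega),
    Nat.factorization_mul (by positivity) (by positivity), Nat.factorization_mul (by omega) (by omega)]
  simp [Nat.factorization_eq_zero_of_not_dvd hrq3, Nat.factorization_eq_zero_of_not_dvd hrq, Nat.factorization_eq_zero_of_not_dvd hrp,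
    Nat.prime_two.factorization, Finsupp.single_eq_of_ne' (Ne.symm hr2)]

/-- Elements of a three-group over `U` centralizing `t` lie in `U`. -/
theorem three_inf_cent {X : Subgroup G} (hX : IsPGroup 3 X) (hUX : S.threeSub ≤ X) {g : G}
    (hg : g ∈ X) (hgt : g * S.t = S.t * g) : g ∈ S.threeSub := by
  classical
  haveI : Finite L := S.finite_L
  haveI : Fact (Nat.Prime 3) := ⟨Nat.prime_three⟩
  obtain ⟨l, hl⟩ := S.cent g hgt
  rcases hl with rfl | rfl
  · have hH : IsPGroup 3 (X.comap S.φ) := hX.comap_of_injective S.φ S.inj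
    have hle : S.D.U ≤ X.comap S.φ := fun u hu => hUX ⟨u, hu, rfl⟩
    obtain ⟨k, hk⟩ := IsPGroup.iff_card.1 hH
    have hdvd : 3 ^ k ∣ 3 ^ (2 * n + 1) := by
      have h1 : 3 ^ k ∣ 2 * Nat.card L := (hk ▸ card_subgroup_dvd_card (X.comap S.φ)).mul_left 2
      rw [S.D.card_L] at h1
      refine Nat.Coprime.dvd_of_dvd_mul_right ?_ h1
      refine Nat.Coprime.pow_left _ ((Nat.Prime.coprime_iff_not_dvd Nat.prime_three).2 ?_)
      have h := S.q_facts
      have hpos : 1 ≤ 3 ^ (2 * n + 1) * 3 ^ (2 * n + 1) := Nat.one_le_iff_ne_zero.2 (by positivity)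
      have h3 : 3 ∣ 3 ^ (2 * n + 1) * 3 ^ (2 * n + 1) := h.2.2.2.2.2.mul_right _
      omega
    have heq : S.D.U = X.comap S.φ := eq_of_le_of_card_ge hle (by
      rw [hk, S.D.card_U]
      exact Nat.le_of_dvd (by positivity) hdvd)
    exact ⟨l, by rw [SetLike.mem_coe, heq]; exact hg, rfl⟩
  · exfalso
    obtain ⟨j, hj⟩ := hX ⟨_, hg⟩
    have h1 : (S.t * S.φ l) ^ 3 ^ j = 1 := congrArg Subtype.val hj
    rw [(show Commute S.t (S.φ l) from S.comm l).mul_pow] at h1
    obtain ⟨k, hk⟩ : Odd (3 ^ j) := Odd.pow (by decide)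
    have ht : S.t ^ 3 ^ j = S.t := by rw [hk, pow_succ, pow_mul, sq, S.t_sq, one_pow, one_mul]
    rw [ht, ← map_pow] at h1
    exact S.not_mem (l ^ 3 ^ j) (by
      rw [← inv_eq_of_mul_eq_one_right h1, S.t_inv])

/-- The normalizer of such a three-group meets `C(t)` in `⟨t⟩ B`. -/
theorem norm_inf_cent {X : Subgroup G} (hX : IsPGroup 3 X) (hUX : S.threeSub ≤ X) {g : G}
    (hg : g ∈ normalizer (X : Set G)) (hgt : g * S.t = S.t * g) :
    ∃ b ∈ S.D.B, g = S.φ b ∨ g = S.t * S.φ b := by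
  obtain ⟨l, hl⟩ := S.cent g hgt
  refine ⟨l, S.D.norm_U l fun u hu => ?_, hl⟩
  have h1 : g * S.φ u * g⁻¹ = S.φ (l * u * l⁻¹) := by
    rcases hl with rfl | rfl
    · simp only [map_mul, map_inv]
    · rw [mul_inv_rev, S.t_inv, map_mul, map_mul, map_inv]
      calc S.t * S.φ l * S.φ u * ((S.φ l)⁻¹ * S.t) = S.t * (S.φ l * S.φ u * (S.φ l)⁻¹ * S.t) := by
            group
        _ = S.φ l * S.φ u * (S.φ l)⁻¹ := by
            rw [← map_inv, ← map_mul, ← map_mul, ← S.comm, S.t_mul_t_mul]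
  have h2 : g * S.φ u * g⁻¹ ∈ X := (mem_normalizer_iff.1 hg _).1 (hUX ⟨u, hu, rfl⟩)
  obtain ⟨w, hw, hwe⟩ := three_inf_cent S hX hUX h2
    (by rw [h1]; exact (S.comm _).symm)
  exact S.inj (hwe.trans h1) ▸ hw

/-- A Sylow three-subgroup over `U` normalized by `t` and the torus. -/
theorem exists_invariant_sylow (hord : Nat.card G = (3 ^ (2 * n + 1)) ^ 3 *
    ((3 ^ (2 * n + 1)) ^ 3 + 1) * (3 ^ (2 * n + 1) - 1)) :
    ∃ P : Sylow 3 G, S.threeSub ≤ P ∧ S.t ∈ normalizer ((P : Subgroup G) : Set G) ∧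
      S.φ S.D.a ∈ normalizer ((P : Subgroup G) : Set G) := by
  classical
  haveI : Fact (Nat.Prime 3) := ⟨Nat.prime_three⟩
  haveI : Finite L := S.finite_L
  set p : Subgroup G → Prop := fun X => IsPGroup 3 X ∧ S.threeSub ≤ X ∧
    S.t ∈ normalizer (X : Set G) ∧ S.φ S.D.a ∈ normalizer (X : Set G) with hp
  have hU : p S.threeSub := by
    refine ⟨S.isPGroup_threeSub, le_rfl,
      Cfsg.Lib.Fusion.le_normalizer_of_conj_mem fun x hx => ?_,
      Cfsg.Lib.Fusion.le_normalizer_of_conj_mem fun x hx => ?_⟩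
    · rw [S.t_threeSub hx, mul_inv_cancel_right]; exact hx
    · obtain ⟨u, hu, rfl⟩ := hx
      exact ⟨_, S.D.U_normal _ S.D.a_mem u hu, by simp⟩
  obtain ⟨X, ⟨hX3, hUX, htX, haX⟩, hmax⟩ := (Set.toFinite {X : Subgroup G | p X}).exists_maximal ⟨_, hU⟩
  obtain ⟨P, hXP⟩ := hX3.exists_le_sylow
  by_cases heq : X = P
  · exact ⟨P, hUX.trans hXP, heq ▸ htX, heq ▸ haX⟩
  exfalso
  obtain ⟨k, hk⟩ := IsPGroup.iff_card.1 hX3
  have hdvd : 3 ^ (k + 1) ∣ Nat.card G := by
    obtain ⟨k', hk'⟩ := IsPGroup.iff_card.1 P.isPGroup'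
    have hlt : k < k' := by
      by_contra hle
      refine heq (eq_of_le_of_card_ge hXP ?_)
      rw [hk, hk']
      exact Nat.pow_le_pow_right (by norm_num) (by omega)
    exact (pow_dvd_pow 3 hlt).trans (hk' ▸ card_subgroup_dvd_card _)
  have hdQ := Sylow.prime_dvd_card_quotient_normalizer hdvd hk
  set Y : Subgroup G := normalizer (X : Set G) with hY
  set π := QuotientGroup.mk' (X.subgroupOf Y) with hπ
  have hXY : X ≤ Y := le_normalizer
  have hπ1 : ∀ y : Y, π y = 1 ↔ (y : G) ∈ X := fun y => by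
    rw [hπ, QuotientGroup.mk'_apply, QuotientGroup.eq_one_iff, mem_subgroupOf]
  obtain ⟨-, h13, hmodd, hm3, h2m⟩ := torus_facts S
  -- the Sylow two-subgroup of `Y`
  set tY : Y := ⟨S.t, htX⟩ with htY
  haveI : Fact (Nat.Prime 2) := ⟨Nat.prime_two⟩
  have hBodd : Odd (Nat.card S.D.B) := by
    have h1 := S.D.card_B
    rw [← h2m, ← mul_assoc, mul_comm (3 ^ (2 * n + 1)) 2, mul_assoc] at h1
    rw [mul_left_cancel₀ two_ne_zero h1]
    exact Odd.mul (Odd.pow (by decide)) hmodd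
  have hord2 : orderOf (⟨S.t, htX⟩ : Y) = 2 := by rw [orderOf_mk, S.orderOf_t]
  obtain ⟨P2, hP2⟩ : ∃ P2 : Sylow 2 Y, (P2 : Subgroup Y) = zpowers tY := by
    obtain ⟨P2, hle⟩ := (IsPGroup.of_card (n := 1) (show Nat.card (zpowers tY) = 2 ^ 1 by
      rw [Nat.card_zpowers, hord2, pow_one])).exists_le_sylow
    refine ⟨P2, le_antisymm (fun x hx => ?_) hle⟩
    obtain ⟨hsq, hcomm, -⟩ := S.isPGroup_sq (P2.isPGroup'.map Y.subtype)
    have hxG : (x : G) ∈ (P2 : Subgroup Y).map Y.subtype := ⟨x, hx, rfl⟩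
    have htG : S.t ∈ (P2 : Subgroup Y).map Y.subtype := ⟨tY, hle (mem_zpowers _), rfl⟩
    obtain ⟨b, hb, hxb⟩ := norm_inf_cent S hX3 hUX x.2 (hcomm _ hxG _ htG)
    have hb1 : b = 1 := by
      have h2 := hsq _ hxG
      have hbb : b * b = 1 := by
        apply S.inj
        rw [map_one]
        rcases hxb with e | e <;> rw [e] at h2
        · rwa [map_mul]
        · rwa [S.t_φ_pow_two] at h2
      rw [← orderOf_eq_one_iff]
      rcases (Nat.dvd_prime Nat.prime_two).1 (orderOf_dvd_of_pow_eq_one (x := b) (by rw [pow_two]; exact hbb))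
        with h | h
      · exact h
      · exfalso
        have h3 := hBodd.of_dvd_nat (S.D.B.orderOf_dvd_natCard hb)
        rw [h] at h3
        exact absurd h3 (by decide)
    subst hb1
    rcases hxb with e | e
    · rw [map_one] at e
      rw [show x = 1 from Subtype.ext e]
      exact one_mem _
    · rw [map_one, mul_one] at e
      rw [show x = tY from Subtype.ext e]
      exact mem_zpowers _
  set tQ := π tY with htQ
  have htQ2 : tQ * tQ = 1 := by
    rw [htQ, ← map_mul, show tY * tY = 1 from Subtype.ext S.t_sq, map_one]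
  have hordQ : orderOf tQ = 2 := by
    refine orderOf_eq_prime (by rw [sq, htQ2]) fun h => ?_
    have hmem := (hπ1 tY).1 h
    obtain ⟨j, hj⟩ := IsPGroup.iff_orderOf.1 hX3 ⟨S.t, hmem⟩
    rw [orderOf_mk, S.orderOf_t] at hj
    have h3 : Odd (3 ^ j) := Odd.pow (by decide)
    rw [← hj] at h3
    exact absurd h3 (by decide)
  set P2Q : Sylow 2 (Y ⧸ X.subgroupOf Y) :=
    P2.mapSurjective (QuotientGroup.mk'_surjective _) with hP2Q
  have hP2Q' : (P2Q : Subgroup (Y ⧸ X.subgroupOf Y)) = zpowers tQ := by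
    rw [hP2Q, Sylow.coe_mapSurjective, hP2, MonoidHom.map_zpowers]
  obtain ⟨M, hMn, hMi, hModd, hM⟩ := exists_odd_complement P2Q hP2Q' hordQ
  haveI := hMn
  haveI : Group.IsSolvable M := Cfsg.Agent.S0205.result hModd
  -- the image of the torus
  set aY : Y := ⟨S.φ S.D.a, haX⟩ with haY
  set W := zpowers (π aY) with hW
  have haord : orderOf (π aY) = 2 * T - 1 := by
    have hd : orderOf (π aY) ∣ 2 * T - 1 := by
      refine (orderOf_map_dvd π aY).trans ?_
      rw [orderOf_mk, (torus_facts S).1]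
    refine Nat.dvd_antisymm hd ?_
    have hmem : (S.φ S.D.a) ^ orderOf (π aY) ∈ X := by
      have := (hπ1 (aY ^ orderOf (π aY))).1 (by rw [map_pow, pow_orderOf_eq_one])
      simpa using this
    obtain ⟨j, hj⟩ := IsPGroup.iff_orderOf.1 hX3 ⟨_, hmem⟩
    rw [orderOf_mk] at hj
    have h1 : orderOf ((S.φ S.D.a) ^ orderOf (π aY)) ∣ 2 * T - 1 :=
      (torus_facts S).1 ▸ orderOf_pow_dvd _
    rw [hj] at h1
    cases j with
    | zero =>
      rw [pow_zero, orderOf_eq_one_iff, ← orderOf_dvd_iff_pow_eq_one, (torus_facts S).1] at hj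
      exact hj
    | succ j => exact absurd ((dvd_pow_self 3 (Nat.succ_ne_zero j)).trans h1) hm3
  have hWc : Nat.card W = 2 * T - 1 := by rw [hW, Nat.card_zpowers, haord]
  have hWM : W ≤ M := by
    rw [hW, zpowers_le]
    exact hM _ (haord ▸ hmodd)
  have hWt : ∀ x ∈ W, x * tQ = tQ * x := by
    intro x hx
    obtain ⟨i, rfl⟩ := mem_zpowers_iff.1 hx
    rw [htQ, ← map_zpow, ← map_mul, ← map_mul]
    congr 1
    exact Subtype.ext (t_comm_torus S (by
      rw [Subgroup.coe_zpow]; exact zpow_mem (mem_zpowers _) _))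
  have hC : ∀ x ∈ M, x * tQ = tQ * x → x ∈ W := by
    intro x hxM hxt
    obtain ⟨g, rfl⟩ := QuotientGroup.mk'_surjective _ x
    -- a conjugate of `t` by an element of `X`
    set z : G := g * S.t * (g : G)⁻¹ * S.t with hz
    have hzX : z ∈ X := by
      have h1 : π (g * tY * g⁻¹ * tY) = 1 := by
        simp only [map_mul, map_inv, ← htQ]
        rw [hxt, mul_inv_cancel_right, htQ2]
      simpa [hz, htY] using (hπ1 _).1 h1
    have hzt : S.t * z * S.t = z⁻¹ := by
      simp [hz, mul_assoc, S.t_sq, S.t_inv]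
    obtain ⟨j, hj⟩ := IsPGroup.iff_orderOf.1 hX3 ⟨z, hzX⟩
    rw [orderOf_mk] at hj
    obtain ⟨i, hi⟩ : Odd (orderOf z) := hj ▸ Odd.pow (by decide)
    set s := z ^ (i + 1) with hs
    have hss : s * s = z := by
      rw [hs, ← pow_add, show i + 1 + (i + 1) = (2 * i + 1) + 1 by ring, pow_succ, ← hi,
        pow_orderOf_eq_one, one_mul]
    have hst : S.t * s * S.t = s⁻¹ := by
      have h := conj_pow (a := S.t) (b := z) (i := i + 1)
      rw [S.t_inv, hzt, inv_pow, ← hs] at h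
      exact h.symm
    have hcomm : s⁻¹ * g * S.t = S.t * (s⁻¹ * g) := by
      have h1 : s * S.t * s⁻¹ = g * S.t * (g : G)⁻¹ := by
        calc s * S.t * s⁻¹ = s * S.t * (S.t * s * S.t) := by rw [hst]
          _ = s * (S.t * S.t) * s * S.t := by group
          _ = z * S.t := by rw [S.t_sq, mul_one, hss]
          _ = g * S.t * (g : G)⁻¹ := by rw [hz, mul_assoc, S.t_sq, mul_one]
      calc s⁻¹ * g * S.t = s⁻¹ * (g * S.t * (g : G)⁻¹) * g := by group
        _ = S.t * (s⁻¹ * g) := by rw [← h1]; group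
    have hsX : s ∈ X := pow_mem hzX _
    have hsg : s⁻¹ * (g : G) ∈ Y := mul_mem (inv_mem (hXY hsX)) g.2
    obtain ⟨b, hb, hgb⟩ := norm_inf_cent S hX3 hUX hsg hcomm
    obtain ⟨u, hu, a', ha', rfl⟩ := S.B_decomp hb
    obtain ⟨i', rfl⟩ := mem_zpowers_iff.1 ha'
    have hu' : S.φ u ∈ X := hUX ⟨u, hu, rfl⟩
    have hgπ : ∀ c : Y, s⁻¹ * (g : G) = c → π g = π c := fun c hc => by
      rw [← show (⟨s, hXY hsX⟩ : Y) * c = g from Subtype.ext (by
        show s * (c : G) = g
        rw [← hc, mul_inv_cancel_left]), map_mul, (hπ1 _).2 (show ((⟨s, hXY hsX⟩ : Y) : G) ∈ X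
          from hsX), one_mul]
    set uY : Y := ⟨S.φ u, hXY hu'⟩ with huY
    have hπu : π uY = 1 := (hπ1 _).2 hu'
    rcases hgb with hgb | hgb
    · rw [hgπ (uY * aY ^ i') (by rw [hgb]; simp [huY, haY]), map_mul, hπu, one_mul, map_zpow]
      exact zpow_mem (mem_zpowers _) _
    · exfalso
      have h1 := hgπ (tY * (uY * aY ^ i')) (by rw [hgb]; simp [huY, haY, htY])
      rw [map_mul, map_mul, hπu, one_mul, map_zpow, ← htQ] at h1
      have htM : tQ ∈ M := by
        have h2 := mul_mem hxM (inv_mem (hWM (zpow_mem (mem_zpowers (π aY)) i')))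
        rwa [h1, mul_inv_cancel_right] at h2
      have h3 := hModd.of_dvd_nat (M.orderOf_dvd_natCard htM)
      rw [hordQ] at h3
      exact absurd h3 (by decide)
  refine not_three_dvd_kernel htQ2 M hModd W hWM hC hWt (hWc ▸ hm3) (fun r hr hd => ?_) ?_ ?_
  · rw [hWc] at hd ⊢
    rw [← torus_sylow S hord hr hd]
    refine (Nat.factorization_le_iff_dvd Nat.card_pos.ne' Nat.card_pos.ne').2 ?_ r
    exact (card_subgroup_dvd_card M).trans ((card_quotient_dvd_card _).trans (card_subgroup_dvd_card Y))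
  · -- no normal three-subgroup
    set K := pCore 3 (Y ⧸ X.subgroupOf Y) with hK
    set X' := (K.comap π).map Y.subtype with hX'
    have hker : IsPGroup 3 π.ker := by
      rw [hπ, QuotientGroup.ker_mk']
      exact hX3.comap_subtype
    have hle : X ≤ X' := fun x hx => ⟨⟨x, hXY hx⟩, by
      show π ⟨x, hXY hx⟩ ∈ K
      rw [(hπ1 _).2 hx]; exact one_mem _, rfl⟩
    haveI : (K.comap π).Normal := Normal.comap inferInstance π
    have hYn : Y ≤ normalizer (X' : Set G) := by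
      have h := le_normalizer_map (H := K.comap π) Y.subtype
      rwa [normalizer_eq_top, ← MonoidHom.range_eq_map, range_subtype] at h
    have hpX' : p X' := ⟨((Cfsg.Lib.Core.pCore_isPGroup 3 _).comap_of_ker_isPGroup π hker).map _,
      hUX.trans hle, hYn htX, hYn haX⟩
    have hX'eq : X' ≤ X := hmax hpX' hle
    rw [eq_bot_iff]
    intro x hx
    obtain ⟨y, rfl⟩ := QuotientGroup.mk'_surjective _ x
    rw [mem_bot]
    exact (hπ1 y).2 (hX'eq ⟨y, hx, rfl⟩)
  · have h1 : Nat.card M * 2 = Nat.card (Y ⧸ X.subgroupOf Y) := hMi ▸ M.card_mul_index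
    have hdQ' : 3 ∣ Nat.card M * 2 := h1 ▸ hdQ
    exact ((Nat.Prime.dvd_mul Nat.prime_three).1 hdQ').resolve_right (by decide)

end Cfsg.Lib.ReeTwoTrans
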