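import Cfsg.Agent.Lib.ReeTwoTrans.Average
import Cfsg.Agent.Lib.ReeTwoTrans.Invariant
import Cfsg.Agent.Lib.Linear.Unipotent.Steinberg
import Cfsg.Agent.S0157
import Cfsg.Agent.S0190

/-!
# The doubly transitive action of a group of Ree type and Ree order

The coset space of `P ⟨t, a⟩` has `q³ + 1` points. The averages over `P` of a character of degree
`q³` are multiplicative on `⟨t a⟩`, and reality at `t a` with the congruence at `t` makes them
trivial. So the permutation character is the principal character plus an irreducible one.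
-/

set_option autoImplicit false
set_option linter.unusedSectionVars false
set_option linter.style.haveILetI false

namespace Cfsg.Lib.ReeTwoTrans

open Subgroup Cfsg Cfsg.Lib.Char Cfsg.Lib.ReeType
open scoped ComplexConjugate

universe u v

/-- A character of degree `d` and the principal one in a permutation character of degree `d + 1`. -/
theorem perm_eq {G : Type u} [Group G] [Fintype G] (H : Subgroup G) [Fintype H] (χ : IrrCharacter G)
    (hne : (χ : G → ℂ) ≠ fun _ => 1) {d : ℕ} (hd : (χ : G → ℂ) 1 = d) (hidx : H.index = d + 1)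
    (hsum : ∑ h : H, (χ : G → ℂ) h = (Nat.card H : ℂ)) :
    indFun H (fun _ => 1) = (fun _ => 1) + (χ : G → ℂ) := by
  classical
  set P0 : G → ℂ := indFun H (fun _ => 1) with hP0
  have hc : IsCharacter G P0 := isCharacter_indFun H isCharacter_one
  set one : IrrCharacter G := ⟨fun _ => 1, isIrrCharacter_one⟩ with hone
  have hne' : one ≠ χ := fun h => hne (by rw [← h, hone])
  have hcH : (Nat.card H : ℂ) ≠ 0 := card_cast_ne_zero
  have h1 : classInner P0 (one : G → ℂ) = 1 := by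
    rw [hP0, classInner_indFun H _ one.2.isClassFunction, hone, classInner]
    simp [hcH]
  have h2 : classInner P0 (χ : G → ℂ) = 1 := by
    rw [hP0, classInner_indFun H _ χ.2.isClassFunction, classInner]
    simp only [one_mul]
    rw [← map_sum, hsum, Complex.conj_natCast, inv_mul_cancel₀ hcH]
  choose nn hnn using fun ψ : IrrCharacter G => hc.exists_nat_classInner ψ.2.isCharacter
  have hexp := eq_sum_classInner hc.isClassFunction
  have hdeg : ∑ ψ : IrrCharacter G, nn ψ * charDegree (ψ : G → ℂ) = d + 1 := by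
    have h := congrFun hexp 1
    rw [hP0, indFun_apply_one, mul_one, hidx, Finset.sum_apply] at h
    refine Nat.cast_injective (R := ℂ) ?_
    push_cast at h ⊢
    rw [h]
    refine Finset.sum_congr rfl fun ψ _ => ?_
    rw [Pi.smul_apply, smul_eq_mul, ψ.2.apply_one_eq_charDegree, ← hP0, hnn]
  have hn1 : nn one = 1 := by exact_mod_cast (hnn one).symm.trans h1
  have hn2 : nn χ = 1 := by exact_mod_cast (hnn χ).symm.trans h2
  have hd1 : charDegree (one : G → ℂ) = 1 := by
    have h := one.2.apply_one_eq_charDegree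
    simpa [hone] using h.symm
  have hd2 : charDegree (χ : G → ℂ) = d := by
    exact_mod_cast χ.2.apply_one_eq_charDegree.symm.trans hd
  have hrest : ∀ ψ, ψ ≠ one ∧ ψ ≠ χ → nn ψ = 0 := by
    intro ψ hψ
    rw [Finset.sum_eq_add_sum_sdiff_singleton_of_mem (Finset.mem_univ one),
      Finset.sum_eq_add_sum_sdiff_singleton_of_mem (s := Finset.univ \ {one}) (i := χ)
        (by simp [Ne.symm hne']), hn1, hn2, hd1, hd2] at hdeg
    have h0 := (Finset.sum_eq_zero_iff.1 (by omega :
      ∑ x ∈ (Finset.univ \ {one}) \ {χ}, nn x * charDegree (x : G → ℂ) = 0)) ψ (by simp [hψ.1, hψ.2])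
    exact (mul_eq_zero.1 h0).resolve_right ψ.2.charDegree_pos.ne'
  rw [hexp, Fintype.sum_eq_add one χ hne' fun ψ hψ => by
    rw [hnn, hrest ψ hψ, Nat.cast_zero, zero_smul], h1, h2, one_smul, one_smul]

variable {G : Type u} {L : Type v} [Group G] [Group L] [Finite G] [IsSimpleGroup G] {n T : ℕ}
  (S : Setup G L n T)

include S in
/-- A doubly transitive coset space, its point stabilizer a Borel subgroup. -/
theorem exists_point (hna : ¬ IsMulCommutative G)
    (hord : Nat.card G = (3 ^ (2 * n + 1)) ^ 3 * ((3 ^ (2 * n + 1)) ^ 3 + 1) *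
      (3 ^ (2 * n + 1) - 1))
    (χ : IrrCharacter G) (hdeg : charDegree (χ : G → ℂ) = (3 ^ (2 * n + 1)) ^ 3) :
    ∃ (H : Subgroup G) (P : Sylow 3 G), H.index = (3 ^ (2 * n + 1)) ^ 3 + 1 ∧ S.threeSub ≤ P ∧
      (P : Subgroup G) ≤ H ∧ H ≤ normalizer ((P : Subgroup G) : Set G) ∧ S.t ∈ H ∧ S.φ S.D.a ∈ H ∧
      MulAction.IsMultiplyPretransitive G (G ⧸ H) 2 := by
  classical
  haveI := Fintype.ofFinite G
  haveI : Fact (Nat.Prime 3) := ⟨Nat.prime_three⟩
  haveI : Finite L := S.finite_L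
  obtain ⟨hoa, h13, hmodd, hm3, h2m⟩ := torus_facts S
  obtain ⟨P, hUP, htP, haP⟩ := exists_invariant_sylow S hord
  set q := 3 ^ (2 * n + 1) with hq
  set m := 2 * T - 1 with hm
  have hq0 : 1 ≤ q := Nat.one_le_pow _ _ (by norm_num)
  have hq3 : 1 ≤ q ^ 3 := Nat.one_le_pow _ _ hq0
  have hpart : 3 ^ (Nat.card G).factorization 3 = q ^ 3 := by
    rw [hord]
    have h1 : ¬ 3 ∣ (q ^ 3 + 1) * (q - 1) := by
      rw [Nat.Prime.dvd_mul Nat.prime_three]
      have hdq : 3 ∣ q := S.q_facts.2.2.2.2.2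
      have hdq3 : 3 ∣ q ^ 3 := dvd_pow hdq (by norm_num)
      omega
    have h0 : (q ^ 3 + 1) * (q - 1) ≠ 0 := fun h => h1 (h ▸ dvd_zero 3)
    rw [mul_assoc, Nat.factorization_mul (by positivity) h0, Finsupp.add_apply,
      Nat.factorization_eq_zero_of_not_dvd h1, add_zero, hq, ← pow_mul,
      Nat.prime_three.factorization_pow, Finsupp.single_eq_same]
  have hPc : Nat.card (P : Subgroup G) = q ^ 3 := by rw [P.card_eq_multiplicity, hpart]
  haveI : Fintype (P : Subgroup G) := Fintype.ofFinite _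
  have hd1 : (χ : G → ℂ) 1 = (q ^ 3 : ℕ) := by rw [χ.2.apply_one_eq_charDegree, hdeg]
  have hvan : ∀ g : G, 3 ∣ orderOf g → (χ : G → ℂ) g = 0 := fun g hg =>
    Cfsg.Lib.Linear.Unipotent.vanish_of_full_degree 3 χ.2 (by rw [hd1, hpart]) hg
  have hP3 : ∀ z ∈ (P : Subgroup G), z ≠ 1 → 3 ∣ orderOf z := by
    intro z hz hz1
    obtain ⟨j, hj⟩ := IsPGroup.iff_orderOf.1 P.isPGroup' ⟨z, hz⟩
    rw [orderOf_mk] at hj
    rw [hj]
    cases j with
    | zero => exact absurd (orderOf_eq_one_iff.1 (by rw [hj, pow_zero])) hz1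
    | succ j => exact dvd_pow_self 3 (Nat.succ_ne_zero j)
  have hvan2 : ∀ g : G, (orderOf g).Coprime (Nat.card (P : Subgroup G)) →
      ∀ z ∈ (P : Subgroup G), z * g = g * z → z ≠ 1 → (χ : G → ℂ) (z * g) = 0 := by
    intro g hg z hz hc hz1
    refine hvan _ ?_
    rw [(show Commute z g from hc).orderOf_mul_eq_mul_orderOf_of_coprime
      (hg.symm.coprime_dvd_left (Subgroup.orderOf_dvd_natCard _ hz))]
    exact (hP3 z hz hz1).mul_right _
  -- the averages
  set f : G → ℂ := avg (χ : G → ℂ) (P : Subgroup G) with hf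
  have hqC : ((q ^ 3 : ℕ) : ℂ) ≠ 0 := Nat.cast_ne_zero.2 (by omega)
  have hsum1 : ∑ p : (P : Subgroup G), (χ : G → ℂ) p = (Nat.card (P : Subgroup G) : ℂ) := by
    rw [Finset.sum_eq_single_of_mem (1 : (P : Subgroup G)) (Finset.mem_univ _) fun p _ hp =>
      hvan _ (hP3 _ p.2 fun h => hp (Subtype.ext h)), hPc]
    exact hd1
  have hf1 : f 1 = 1 := by
    rw [hf, avg]
    simp only [mul_one]
    rw [hsum1, inv_mul_cancel₀ (by rw [hPc]; exact hqC)]
  set N := normalizer ((P : Subgroup G) : Set G) with hN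
  have hmul : ∀ x ∈ N, ∀ y ∈ N, f (x * y) = f x * f y := fun x hx y hy =>
    avg_mul χ.2 _ hsum1 hx hy
  have hpow : ∀ x ∈ N, ∀ k : ℕ, f (x ^ k) = f x ^ k := by
    intro x hx k
    induction k with
    | zero => rw [pow_zero, pow_zero, hf1]
    | succ k ih => rw [pow_succ, pow_succ, hmul _ (pow_mem hx k) _ hx, ih]
  have hcoset : ∀ g ∈ N, (orderOf g).Coprime (Nat.card (P : Subgroup G)) →
      f g = (Nat.card (P : Subgroup G) : ℂ)⁻¹ *
        ((((centralizer ({g} : Set G)).subgroupOf (P : Subgroup G)).index : ℂ) * (χ : G → ℂ) g) := by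
    intro g hg hcop
    rw [hf, avg, sum_coset (fun a b => χ.2.isClassFunction b a) _ hg hcop (hvan2 g hcop)]
  -- the value at `t`
  have hcopt : (orderOf S.t).Coprime (Nat.card (P : Subgroup G)) := by
    rw [S.orderOf_t, hPc, hq, ← pow_mul]
    exact (Nat.coprime_primes Nat.prime_two Nat.prime_three).2 (by norm_num) |>.pow_right _
  have hUc : (centralizer ({S.t} : Set G)).subgroupOf (P : Subgroup G) =
      S.threeSub.subgroupOf (P : Subgroup G) := by
    ext z
    rw [mem_subgroupOf, mem_subgroupOf, mem_centralizer_singleton_iff]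
    exact ⟨three_inf_cent S P.isPGroup' hUP z.2, fun h => (S.t_threeSub h).symm⟩
  have hidx : (S.threeSub.subgroupOf (P : Subgroup G)).index = q ^ 2 := by
    have h := (S.threeSub.subgroupOf (P : Subgroup G)).card_mul_index
    rw [Nat.card_congr (subgroupOfEquivOfLe hUP).toEquiv, S.card_threeSub, ← hq, hPc,
      pow_succ' q 2] at h
    exact Nat.eq_of_mul_eq_mul_left hq0 h
  have hft : f S.t * (q : ℂ) = (χ : G → ℂ) S.t := by
    rw [hcoset _ htP hcopt, hUc, hidx, hPc]
    push_cast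
    have : (q : ℂ) ≠ 0 := Nat.cast_ne_zero.2 (by omega)
    field_simp
  have hft2 : f S.t * f S.t = 1 := by rw [← hmul _ htP _ htP, S.t_sq, hf1]
  have hft1 : f S.t = 1 := by
    refine (mul_self_eq_one_iff.1 hft2).resolve_right fun h => ?_
    rw [h, neg_one_mul] at hft
    haveI : Fintype S.elem := Fintype.ofFinite _
    obtain ⟨k, hk⟩ := (χ.2.isCharacter.comp S.elem.subtype).exists_nat_classInner
      (isCharacter_one (G := S.elem))
    simp only [classInner, map_one, mul_one, S.card_elem, Subgroup.coe_subtype] at hk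
    have hval : ∀ x ∈ Finset.univ.erase (1 : S.elem), (χ : G → ℂ) x = -(q : ℂ) := by
      intro x hx
      have hx1 : (x : G) ≠ 1 := fun h => (Finset.ne_of_mem_erase hx) (Subtype.ext h)
      obtain ⟨g, hg⟩ := S.exists_conj_t hna (S.elem_sq x.2) hx1
      rw [← hg, χ.2.isClassFunction, hft]
    rw [← Finset.add_sum_erase _ _ (Finset.mem_univ (1 : S.elem)), Finset.sum_congr rfl hval,
      Finset.sum_const, Finset.card_erase_of_mem (Finset.mem_univ _), Finset.card_univ,
      ← Nat.card_eq_fintype_card, S.card_elem, OneMemClass.coe_one, hd1] at hk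
    have hk' : ((q : ℤ) ^ 3 - 7 * q : ℂ) = ((8 * (k : ℤ) : ℤ) : ℂ) := by
      push_cast
      field_simp at hk
      simp at hk
      linear_combination hk
    have hk2 : ((q : ℤ) ^ 3 - 7 * q : ℤ) = 8 * (k : ℤ) := Int.cast_injective (α := ℂ) (by
      push_cast at hk' ⊢
      exact hk')
    obtain ⟨r, hr⟩ : ∃ r : ℤ, (q : ℤ) = 8 * r + 3 := ⟨(q / 8 : ℕ), by
      have := S.q_facts.1; omega⟩
    rw [hr, show (8 * r + 3) ^ 3 - 7 * (8 * r + 3) =
      8 * (64 * r ^ 3 + 72 * r ^ 2 + 20 * r) + 6 by ring] at hk2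
    omega
  -- the value at `t a`
  set c := S.t * S.φ S.D.a with hc
  have hcN : c ∈ N := mul_mem htP haP
  have hta : Commute S.t (S.φ S.D.a) := S.comm _
  have hcm : c ^ m = S.t := by
    rw [hc, hta.mul_pow, show (S.φ S.D.a) ^ m = 1 from hoa ▸ pow_orderOf_eq_one _, mul_one]
    obtain ⟨k, hk⟩ := hmodd
    rw [hk, pow_succ, pow_mul, sq, S.t_sq, one_pow, one_mul]
  have hcord : orderOf c = 2 * m := by
    rw [hc, hta.orderOf_mul_eq_mul_orderOf_of_coprime (by
      rw [S.orderOf_t, hoa]; exact hmodd.coprime_two_left), S.orderOf_t, hoa]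
  have hcopm : Nat.Coprime (2 * m) (Nat.card (P : Subgroup G)) := by
    rw [hPc, hq, ← pow_mul]
    exact (Nat.Coprime.mul_left (by decide) ((Nat.Prime.coprime_iff_not_dvd Nat.prime_three).2 hm3).symm).pow_right _
  have hfree : (centralizer ({c} : Set G)).subgroupOf (P : Subgroup G) = ⊥ := by
    rw [eq_bot_iff]
    intro z hz
    rw [mem_subgroupOf, mem_centralizer_singleton_iff] at hz
    rw [mem_bot]
    refine Subtype.ext ?_
    have hzt : (z : G) * S.t = S.t * z := by
      rw [← hcm]; exact ((show Commute (z : G) c from hz).pow_right m).eq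
    obtain ⟨u, hu, huz⟩ := three_inf_cent S P.isPGroup' hUP z.2 hzt
    rw [← huz] at hz hzt ⊢
    have hua : u * S.D.a = S.D.a * u := S.inj (by
      rw [map_mul, map_mul]
      refine mul_left_cancel (a := S.t) ?_
      rw [← mul_assoc, ← hzt, mul_assoc, ← hc, hz, hc, mul_assoc])
    have ha1 : S.D.a ≠ 1 := fun h => by
      rw [h, map_one, orderOf_one] at hoa; omega
    have humem := S.D.cent_a _ (mem_zpowers _) ha1 u hua
    have h1 : orderOf u ∣ m := by
      rw [hm, ← S.D.orderOf_a]; exact orderOf_dvd_of_mem_zpowers humem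
    rcases (Nat.dvd_prime Nat.prime_three).1 (orderOf_dvd_of_pow_eq_one (S.D.U_cube u hu)) with h | h
    · rw [orderOf_eq_one_iff.1 h, map_one]; rfl
    · rw [h] at h1; exact absurd h1 hm3
  have hfc : f c = (χ : G → ℂ) c := by
    rw [hcoset _ hcN (hcord ▸ hcopm), hfree, index_bot, ← mul_assoc, inv_mul_cancel₀
      (by rw [hPc]; exact hqC), one_mul]
  have hfci : f c⁻¹ = (χ : G → ℂ) c⁻¹ := by
    rw [hcoset _ (inv_mem hcN) (by rw [orderOf_inv]; exact hcord ▸ hcopm)]
    have : (centralizer ({c⁻¹} : Set G)).subgroupOf (P : Subgroup G) = ⊥ := by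
      rw [← hfree]
      congr 1
      ext z
      simp only [mem_centralizer_singleton_iff]
      exact ⟨fun h => (Commute.inv_right_iff.1 h), fun h => (Commute.inv_right_iff.2 h)⟩
    rw [this, index_bot, ← mul_assoc, inv_mul_cancel₀ (by rw [hPc]; exact hqC), one_mul]
  have hreal : (χ : G → ℂ) c⁻¹ = (χ : G → ℂ) c := by
    have h : S.φ S.D.w * c * (S.φ S.D.w)⁻¹ = c⁻¹ := by
      rw [hc, mul_inv_rev, S.t_inv, ← map_inv S.φ S.D.a, ← S.comm, ← S.D.w_inv, map_mul, map_mul,
        map_inv]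
      calc S.φ S.D.w * (S.t * S.φ S.D.a) * (S.φ S.D.w)⁻¹ =
            S.φ S.D.w * S.t * (S.φ S.D.a * (S.φ S.D.w)⁻¹) := by group
        _ = S.t * (S.φ S.D.w * S.φ S.D.a * (S.φ S.D.w)⁻¹) := by rw [← S.comm]; group
    rw [← h, χ.2.isClassFunction]
  have hfc1 : f c = 1 := by
    have h2 : f c * f c = 1 := by
      rw [show f c * f c = f c * f c⁻¹ by rw [hfci, hreal, ← hfc], ← hmul _ hcN _ (inv_mem hcN),
        mul_inv_cancel, hf1]
    refine (mul_self_eq_one_iff.1 h2).resolve_right fun h => ?_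
    have h3 := hpow c hcN m
    rw [hcm, hft1, h, hmodd.neg_one_pow] at h3
    norm_num at h3
  -- the subgroup
  set A := zpowers c with hA
  have hAc : Nat.card A = 2 * m := by rw [hA, Nat.card_zpowers, hcord]
  have hAN : A ≤ N := zpowers_le.2 hcN
  have hfA : ∀ x ∈ A, f x = 1 := by
    intro x hx
    obtain ⟨k, -, rfl⟩ := (isOfFinOrder_of_finite c).mem_zpowers_iff_mem_range_orderOf.1 hx |>
      Finset.mem_image.1
    rw [hpow c hcN, hfc1, one_pow]
  set H := A ⊔ (P : Subgroup G) with hH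
  haveI : Fintype A := Fintype.ofFinite _
  haveI : Fintype H := Fintype.ofFinite _
  have hmemH : ∀ x : A, ∀ p : (P : Subgroup G), (p : G) * x ∈ H := fun x p =>
    mul_mem (mem_sup_right p.2) (mem_sup_left x.2)
  have hbij : Function.Bijective
      (fun y : A × (P : Subgroup G) => (⟨(y.2 : G) * y.1, hmemH _ _⟩ : H)) := by
    refine ⟨fun x y h => ?_, fun h => ?_⟩
    · have h1 : (x.2 : G) * x.1 = y.2 * y.1 := congrArg Subtype.val h
      have h2 : ((y.2 : G))⁻¹ * x.2 = y.1 * (x.1 : G)⁻¹ := by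
        calc ((y.2 : G))⁻¹ * x.2 = (y.2 : G)⁻¹ * (x.2 * x.1) * (x.1 : G)⁻¹ := by group
          _ = y.1 * (x.1 : G)⁻¹ := by rw [h1]; group
      have hmem : ((y.2 : G))⁻¹ * x.2 ∈ A ⊓ (P : Subgroup G) :=
        ⟨(h2.symm ▸ A.mul_mem y.1.2 (A.inv_mem x.1.2) : ((y.2 : G))⁻¹ * x.2 ∈ A),
          (P : Subgroup G).mul_mem ((P : Subgroup G).inv_mem y.2.2) x.2.2⟩
      rw [(disjoint_iff.1 (Subgroup.disjoint_of_coprime_natCard
        (hAc ▸ hcopm) : Disjoint A (P : Subgroup G))), mem_bot, inv_mul_eq_one] at hmem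
      refine Prod.ext (Subtype.ext ?_) (Subtype.ext hmem.symm)
      rw [hmem] at h1
      exact mul_left_cancel h1
    · obtain ⟨a', ha', p', hp', he⟩ := (Cfsg.Lib.Core.mem_sup_of_le_normalizer hAN).1 h.2
      refine ⟨(⟨a', ha'⟩, ⟨a' * p' * a'⁻¹, (mem_normalizer_iff.1 (hAN ha') _).1 hp'⟩),
        Subtype.ext ?_⟩
      simp [← he]
  have hHc : Nat.card H = 2 * m * q ^ 3 := by
    rw [← Nat.card_congr (Equiv.ofBijective _ hbij), Nat.card_prod, hAc, hPc]
  have hHidx : H.index = q ^ 3 + 1 := by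
    have h := H.card_mul_index
    rw [hHc, hord, ← h2m] at h
    exact Nat.eq_of_mul_eq_mul_left (by positivity) (h.trans (by ring))
  have hsum : ∑ h : H, (χ : G → ℂ) h = (Nat.card H : ℂ) := by
    rw [← hbij.sum_comp, Fintype.sum_prod_type, hHc]
    have hin : ∀ x : A, ∑ p : (P : Subgroup G), (χ : G → ℂ) ((p : G) * x) = ((q ^ 3 : ℕ) : ℂ) := by
      intro x
      have h := hfA x x.2
      rw [hf, avg, hPc, inv_mul_eq_one₀ hqC] at h
      exact h.symm
    rw [Finset.sum_congr rfl fun x _ => hin x, Finset.sum_const, Finset.card_univ,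
      ← Nat.card_eq_fintype_card, hAc, nsmul_eq_mul]
    push_cast
    ring
  have hcH : c ∈ H := mem_sup_left (mem_zpowers c)
  have htH : S.t ∈ H := hcm ▸ pow_mem hcH m
  have haH : S.φ S.D.a ∈ H := by
    have h := mul_mem htH hcH
    rwa [hc, S.t_mul_t_mul] at h
  have hne : (χ : G → ℂ) ≠ fun _ => 1 := fun h => by
    rw [h] at hd1
    have h1' : ((q ^ 3 : ℕ) : ℂ) = 1 := hd1.symm
    have h1 : q ^ 3 = 1 := by exact_mod_cast h1'
    have h27 := S.q_facts.2.1
    have h4 := Nat.le_self_pow (show 3 ≠ 0 by norm_num) q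
    omega
  have key := perm_eq H χ hne hd1 hHidx hsum
  refine ⟨H, P, hHidx, hUP, le_sup_right, sup_le hAN le_normalizer, htH, haH, ?_⟩
  haveI : Finite (G ⧸ H) := inferInstance
  have hcard : 2 ≤ Nat.card (G ⧸ H) := by
    rw [← Subgroup.index_eq_card, hHidx]; omega
  refine (Cfsg.Agent.S0157.result (G ⧸ H) hcard).1 ?_
  have hst : MulAction.stabilizer G ((1 : G) : G ⧸ H) = H := MulAction.stabilizer_quotient H
  have hfix := Cfsg.Agent.S0190.result (G := G) (G ⧸ H) ((1 : G) : G ⧸ H)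
  have hind : indFun (MulAction.stabilizer G ((1 : G) : G ⧸ H)) (fun _ => (1 : ℂ)) =
      indFun H (fun _ => 1) := by
    exact indFun_congr H hst.symm fun _ => (1 : ℂ)
  convert χ.2 using 1
  ext g
  have h := congrFun (hfix.trans (hind.trans key)) g
  simp only [Pi.add_apply] at h
  rw [h]
  ring

include S in
/-- A doubly transitive coset space. -/
theorem exists_two_transitive (hna : ¬ IsMulCommutative G)
    (hord : Nat.card G = (3 ^ (2 * n + 1)) ^ 3 * ((3 ^ (2 * n + 1)) ^ 3 + 1) *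
      (3 ^ (2 * n + 1) - 1))
    (χ : IrrCharacter G) (hdeg : charDegree (χ : G → ℂ) = (3 ^ (2 * n + 1)) ^ 3) :
    ∃ H : Subgroup G, H ≠ ⊤ ∧ MulAction.IsMultiplyPretransitive G (G ⧸ H) 2 := by
  obtain ⟨H, P, hidx, -, -, -, -, -, h2⟩ := exists_point S hna hord χ hdeg
  refine ⟨H, fun h => ?_, h2⟩
  rw [h, index_top] at hidx
  have : 1 ≤ (3 ^ (2 * n + 1)) ^ 3 := Nat.one_le_pow _ _ (by positivity)
  omega

end Cfsg.Lib.ReeTwoTrans
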