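import Cfsg.Agent.Lib.Char.Orthogonality
import Mathlib.LinearAlgebra.Trace
import Mathlib.LinearAlgebra.Projection
import Mathlib.GroupTheory.OrderOfElement
import Mathlib.GroupTheory.Coset.Card

/-!
# Averages of a character over a subgroup

If a character has exactly one fixed vector on a subgroup `P`, then the averages over the cosets of
`P` in its normalizer are multiplicative. A class function vanishing off the elements of order prime
to `P` sums over a coset `P a` to a multiple of its value at `a`.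
-/

set_option autoImplicit false

namespace Cfsg.Lib.ReeTwoTrans

open Subgroup Cfsg

universe u

variable {G : Type u} [Group G]

/-- The average over a coset. -/
noncomputable def avg (χ : G → ℂ) (P : Subgroup G) [Fintype P] (a : G) : ℂ :=
  (Nat.card P : ℂ)⁻¹ * ∑ p : P, χ (p * a)

theorem avg_mul {χ : G → ℂ} (hχ : IsIrrCharacter G χ) (P : Subgroup G) [Fintype P]
    (h1 : ∑ p : P, χ p = (Nat.card P : ℂ)) {a b : G} (ha : a ∈ normalizer (P : Set G))
    (hb : b ∈ normalizer (P : Set G)) : avg χ P (a * b) = avg χ P a * avg χ P b := by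
  classical
  obtain ⟨n, ρ, -, rfl⟩ := hχ
  have hc0 : (Nat.card P : ℂ) ≠ 0 := Nat.cast_ne_zero.2 Nat.card_pos.ne'
  set E : Module.End ℂ (Fin n → ℂ) := (Nat.card P : ℂ)⁻¹ • ∑ p : P, ρ p with hE
  have htr : ∀ g : G, LinearMap.trace ℂ (Fin n → ℂ) (E * ρ g) = avg ρ.character P g := by
    intro g
    simp only [hE, avg, smul_mul_assoc, Finset.sum_mul, map_smul, map_sum, smul_eq_mul,
      Representation.character, map_mul]
  have hpE : ∀ p : P, ρ p * ∑ q : P, ρ q = ∑ q : P, ρ q := fun p => by
    rw [Finset.mul_sum]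
    exact Fintype.sum_equiv (Equiv.mulLeft p) _ _ fun q => by simp [map_mul]
  have hEE : E * E = E := by
    rw [hE, smul_mul_smul_comm, Finset.sum_mul, Finset.sum_congr rfl fun p _ => hpE p,
      Finset.sum_const, Finset.card_univ, ← Nat.card_eq_fintype_card,
      ← Nat.cast_smul_eq_nsmul ℂ, smul_smul, mul_assoc, inv_mul_cancel₀ hc0, mul_one]
  have hnorm : ∀ g ∈ normalizer (P : Set G), ρ g * E = E * ρ g := by
    intro g hg
    rw [hE, mul_smul_comm, smul_mul_assoc, Finset.mul_sum, Finset.sum_mul]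
    congr 1
    refine Fintype.sum_equiv (P.normalizerMonoidHom ⟨g, hg⟩).toEquiv _ _ fun p => ?_
    rw [← map_mul, ← map_mul]
    congr 1
    show g * (p : G) = g * p * g⁻¹ * g
    group
  clear_value E
  have hproj : LinearMap.IsProj (LinearMap.range E) E :=
    LinearMap.IsIdempotentElem.isProj_range E hEE
  have hrk : Module.finrank ℂ (LinearMap.range E) = 1 := by
    have h := hproj.trace
    have h' := htr 1
    rw [map_one, mul_one] at h'
    rw [h', avg] at h
    simp only [mul_one] at h
    rw [h1, inv_mul_cancel₀ hc0] at h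
    exact_mod_cast h.symm
  obtain ⟨v, hv, hspan⟩ := finrank_eq_one_iff'.1 hrk
  have hv0 : (v : Fin n → ℂ) ≠ 0 := fun h => hv (Subtype.ext h)
  have hEv : E (v : Fin n → ℂ) = v := hproj.map_id _ v.2
  have hscal : ∀ g ∈ normalizer (P : Set G),
      ρ g (v : Fin n → ℂ) = avg ρ.character P g • (v : Fin n → ℂ) := by
    intro g hg
    have hmem : ρ g (v : Fin n → ℂ) ∈ LinearMap.range E := by
      refine ⟨ρ g v, ?_⟩
      have h := LinearMap.congr_fun (hnorm g hg) (v : Fin n → ℂ)
      rw [Module.End.mul_apply, Module.End.mul_apply, hEv] at h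
      exact h.symm
    obtain ⟨c, hc⟩ := hspan ⟨_, hmem⟩
    have hc' : ρ g (v : Fin n → ℂ) = c • (v : Fin n → ℂ) := (congrArg Subtype.val hc).symm
    have hEc : E * ρ g = c • E := by
      refine LinearMap.ext fun x => ?_
      rw [← hnorm g hg, Module.End.mul_apply]
      obtain ⟨k, hk⟩ := hspan ⟨E x, ⟨x, rfl⟩⟩
      have hk' : E x = k • (v : Fin n → ℂ) := (congrArg Subtype.val hk).symm
      rw [LinearMap.smul_apply, hk', map_smul, hc', smul_comm]
    have hE1 : LinearMap.trace ℂ (Fin n → ℂ) E = 1 := by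
      rw [hproj.trace, hrk, Nat.cast_one]
    have h := htr g
    rw [hEc, map_smul, hE1, smul_eq_mul, mul_one] at h
    rw [hc', h]
  have hab := hscal (a * b) (mul_mem ha hb)
  rw [map_mul, Module.End.mul_apply, hscal b hb, map_smul, hscal a ha, smul_smul] at hab
  have h := smul_left_injective ℂ hv0 hab
  rw [← h, mul_comm]

/-- The sum over a coset of a class function supported on the elements of order prime to `P`. -/
theorem sum_coset [Finite G] {f : G → ℂ} (hf : ∀ g x : G, f (g * x * g⁻¹) = f x) (P : Subgroup G)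
    [Fintype P] {a : G} (ha : a ∈ normalizer (P : Set G))
    (hcop : (orderOf a).Coprime (Nat.card P))
    (hvan : ∀ z ∈ P, z * a = a * z → z ≠ 1 → f (z * a) = 0) :
    ∑ p : P, f (p * a) = (((centralizer ({a} : Set G)).subgroupOf P).index : ℂ) * f a := by
  classical
  set C : Subgroup P := (centralizer ({a} : Set G)).subgroupOf P with hC
  haveI : Fintype C := Fintype.ofFinite _
  haveI : Fintype (P ⧸ C) := Fintype.ofFinite _
  have hCmem : ∀ z : C, ((z : P) : G) * a = a * ((z : P) : G) := fun z =>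
    mem_centralizer_singleton_iff.1 z.2
  have hmem : ∀ (h z : P), (h : G) * z * a * (h : G)⁻¹ * a⁻¹ ∈ P := fun h z => by
    have h1 : a * (h : G)⁻¹ * a⁻¹ ∈ P :=
      (mem_normalizer_iff.1 ha _).1 (inv_mem h.2)
    have h2 := mul_mem (mul_mem h.2 z.2) h1
    simpa only [mul_assoc] using h2
  set Φ : (P ⧸ C) × C → P := fun x =>
    ⟨(x.1.out : G) * ((x.2 : P) : G) * a * ((x.1.out : P) : G)⁻¹ * a⁻¹, hmem _ _⟩ with hΦ
  obtain ⟨e, he1, he2⟩ : ∃ e : ℕ, e ≡ 1 [MOD orderOf a] ∧ e ≡ 0 [MOD Nat.card P] :=
    ⟨_, (Nat.chineseRemainder hcop 1 0).2.1, (Nat.chineseRemainder hcop 1 0).2.2⟩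
  have hpow : ∀ z : C, (((z : P) : G) * a) ^ e = a := fun z => by
    rw [(show Commute ((z : P) : G) a from hCmem z).mul_pow]
    have h1 : ((z : P) : G) ^ e = 1 := by
      have : (z : P) ^ e = 1 := by
        rw [← orderOf_dvd_iff_pow_eq_one]
        exact dvd_trans (orderOf_dvd_natCard _) (Nat.modEq_zero_iff_dvd.1 he2)
      have := congrArg Subtype.val this
      simpa using this
    rw [h1, one_mul, pow_eq_pow_iff_modEq.2 he1, pow_one]
  have hinj : Function.Injective Φ := by
    rintro ⟨x, z⟩ ⟨y, w⟩ h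
    have h1 : ((x.out : P) : G) * (((z : P) : G) * a) * ((x.out : P) : G)⁻¹ =
        ((y.out : P) : G) * (((w : P) : G) * a) * ((y.out : P) : G)⁻¹ := by
      have := congrArg (fun p : P => (p : G) * a) h
      simpa [hΦ, mul_assoc] using this
    have h2 := congrArg (· ^ e) h1
    simp only [conj_pow, hpow] at h2
    have h3 : x.out⁻¹ * y.out ∈ C := by
      show ((x.out⁻¹ * y.out : P) : G) ∈ centralizer ({a} : Set G)
      rw [mem_centralizer_singleton_iff]
      push_cast
      calc ((x.out : P) : G)⁻¹ * y.out * a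
          = ((x.out : P) : G)⁻¹ * (((y.out : P) : G) * a * ((y.out : P) : G)⁻¹) * y.out := by group
        _ = a * (((x.out : P) : G)⁻¹ * y.out) := by rw [← h2]; group
    obtain rfl : x = y := by
      rw [← Quotient.out_eq x, ← Quotient.out_eq y]
      exact QuotientGroup.eq.2 h3
    have h4 : ((z : P) : G) = ((w : P) : G) := mul_right_cancel (mul_left_cancel (mul_right_cancel h1))
    exact Prod.ext rfl (Subtype.ext (Subtype.ext h4))
  have hcard : Fintype.card ((P ⧸ C) × C) = Fintype.card P := by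
    rw [Fintype.card_prod, ← Nat.card_eq_fintype_card, ← Nat.card_eq_fintype_card,
      ← Nat.card_eq_fintype_card (α := P)]
    exact C.card_eq_card_quotient_mul_card_subgroup.symm
  have hbij : Function.Bijective Φ :=
    (Fintype.bijective_iff_injective_and_card Φ).2 ⟨hinj, hcard⟩
  rw [← hbij.sum_comp]
  have hval : ∀ x : (P ⧸ C) × C, f ((Φ x : G) * a) = f (((x.2 : P) : G) * a) := fun x => by
    rw [← hf ((x.1.out : P) : G) (((x.2 : P) : G) * a)]
    congr 1
    simp [hΦ, mul_assoc]
  have hinner : ∑ z : C, f (((z : P) : G) * a) = f a := by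
    rw [Finset.sum_eq_single_of_mem (1 : C) (Finset.mem_univ _)
      (fun z _ hz => hvan _ (z : P).2 (hCmem z) fun h =>
        hz (Subtype.ext (Subtype.ext h)))]
    simp
  rw [Finset.sum_congr rfl fun x _ => hval x, Fintype.sum_prod_type, Finset.sum_congr rfl
    fun _ _ => hinner, Finset.sum_const, Finset.card_univ, nsmul_eq_mul,
    ← Nat.card_eq_fintype_card]
  rfl

end Cfsg.Lib.ReeTwoTrans
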