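import Cfsg.Agent.Lib.ReeTwoTrans.Main
import Cfsg.Agent.Lib.WalterBig.Main

/-!
# Order 175560 from the centralizer clause alone
-/

set_option autoImplicit false

namespace Cfsg.Lib.ReeTwoTrans

open Cfsg Cfsg.Lib

universe u

/-- The theorem on large Sylow two-subgroups, as a clause. -/
theorem bigClause {G : Type u} [Group G] [Finite G] [IsSimpleGroup G] (hna : ¬ IsMulCommutative G) :
    AllAb.BigClause G := fun S hS hbig =>
  WalterBig.big hna S hS (hbig.symm.imp_left fun ⟨x, hx, hx1⟩ h => hx1 (h x hx))

theorem card_eq_of_cent {G : Type u} [Group G] [Finite G] [IsSimpleGroup G]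
    (hna : ¬ IsMulCommutative G) (T : Sylow 2 G) (hT : IsMulCommutative (T : Subgroup G))
    (hno : NoTwoTrans G) (hW : Walter3.CentClause G) : Nat.card G = 175560 :=
  card_eq_of hna T hT hno (bigClause hna) hW

end Cfsg.Lib.ReeTwoTrans
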