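import Cfsg.Agent.Lib.ReeTwoTrans.Action
import Cfsg.Agent.Lib.AllAb.Main
import Cfsg.Agent.Lib.J1Weak.JFacts
import Mathlib.LinearAlgebra.Projectivization.Action
import Mathlib.GroupTheory.GroupAction.MultiplePrimitivity

/-!
# Simple groups with abelian Sylow two-subgroups and no doubly transitive action have order 175560

Given the theorem on large Sylow two-subgroups (`BigClause`) and the structure of the nonsolvable
involution centralizers (`Walter3.CentClause`).
-/

set_option autoImplicit false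
set_option linter.style.haveILetI false

namespace Cfsg.Lib.ReeTwoTrans

open Subgroup Cfsg Matrix
open Cfsg.Lib

universe u

variable {G : Type u} [Group G] [Finite G] [IsSimpleGroup G]

/-- No faithful doubly transitive action on a set of the lowest universe. -/
def NoTwoTrans (G : Type u) [Group G] : Prop :=
  ∀ (Ω : Type) [Fintype Ω] [MulAction G Ω] [FaithfulSMul G Ω],
    ¬ MulAction.IsMultiplyPretransitive G Ω 2

/-- A nontrivial action of a simple group is faithful. -/
theorem faithful_of_ne {Ω : Type*} [MulAction G Ω] {g : G} {x : Ω} (h : g • x ≠ x) :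
    FaithfulSMul G Ω := by
  have hker : (MulAction.toPermHom G Ω).ker = ⊥ := by
    refine (IsSimpleGroup.eq_bot_or_eq_top_of_normal _ (MonoidHom.normal_ker _)).resolve_right
      fun e => h ?_
    have hg : g ∈ (MulAction.toPermHom G Ω).ker := e ▸ mem_top g
    exact Equiv.ext_iff.1 (MonoidHom.mem_ker.1 hg) x
  exact ⟨fun {a b} hab => (MonoidHom.ker_eq_bot_iff _).1 hker (Equiv.ext hab)⟩

theorem false_of_quot (hno : NoTwoTrans G) (H : Subgroup G) (hH : H ≠ ⊤)
    (h2 : MulAction.IsMultiplyPretransitive G (G ⧸ H) 2) : False := by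
  let ε := Finite.equivFin (G ⧸ H)
  letI : MulAction G (Fin (Nat.card (G ⧸ H))) :=
    { smul := fun g x => ε (g • ε.symm x)
      one_smul := fun x => by show ε ((1 : G) • ε.symm x) = x; simp
      mul_smul := fun a b x => by
        show ε ((a * b) • ε.symm x) = ε (a • ε.symm (ε (b • ε.symm x)))
        simp [mul_smul] }
  have hsm : ∀ (g : G) (x : Fin (Nat.card (G ⧸ H))), g • x = ε (g • ε.symm x) := fun _ _ => rfl
  obtain ⟨g, hg⟩ : ∃ g, g ∉ H := by
    by_contra h
    push Not at h
    exact hH (top_le_iff.1 fun x _ => h x)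
  haveI : FaithfulSMul G (Fin (Nat.card (G ⧸ H))) := by
    refine faithful_of_ne (g := g) (x := ε ((1 : G) : G ⧸ H)) fun e => hg ?_
    rw [hsm, ε.symm_apply_apply] at e
    have h1 := ε.injective e
    rw [MulAction.Quotient.smul_coe, smul_eq_mul, mul_one, QuotientGroup.eq, mul_one] at h1
    exact inv_mem_iff.1 h1
  refine hno (Fin (Nat.card (G ⧸ H))) ?_
  rw [MulAction.is_two_pretransitive_iff]
  intro a b c d hab hcd
  obtain ⟨k, hk1, hk2⟩ := (MulAction.is_two_pretransitive_iff.1 h2)
    (fun e => hab (ε.symm.injective e)) (fun e => hcd (ε.symm.injective e))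
  exact ⟨k, by rw [hsm, hk1, ε.apply_symm_apply], by rw [hsm, hk2, ε.apply_symm_apply]⟩

theorem false_of_psl (hno : NoTwoTrans G) {F : Type} [Field F] [Fintype F]
    (f : G ≃* ProjectiveSpecialLinearGroup (Fin 2) F) : False := by
  classical
  letI : MulAction G (Projectivization F (Fin 2 → F)) := MulAction.compHom _ f.toMonoidHom
  haveI : Fintype (Projectivization F (Fin 2 → F)) := Fintype.ofFinite _
  have hsm : ∀ (g : G) (x : Projectivization F (Fin 2 → F)), g • x = f g • x := fun _ _ => rfl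
  have h2 : MulAction.IsMultiplyPretransitive G (Projectivization F (Fin 2 → F)) 2 := by
    rw [MulAction.is_two_pretransitive_iff]
    intro x y x' y' hxy hxy'
    obtain ⟨g, hg, hg'⟩ := (MulAction.is_two_pretransitive_iff.1
      (inferInstance : MulAction.IsMultiplyPretransitive (SpecialLinearGroup (Fin 2) F)
        (Projectivization F (Fin 2 → F)) 2)) hxy hxy'
    refine ⟨f.symm (g : ProjectiveSpecialLinearGroup (Fin 2) F), ?_, ?_⟩ <;>
      rw [hsm, f.apply_symm_apply, Matrix.ProjectiveSpecialLinearGroup.smul_proj_mk]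
    · exact hg
    · exact hg'
  have hne : (Projectivization.mk F ![(1 : F), 0] (by simp)) ≠
      Projectivization.mk F ![(0 : F), 1] (by simp) := by
    rw [ne_eq, Projectivization.mk_eq_mk_iff']
    rintro ⟨c, hc⟩
    have := congrFun hc 0
    simp at this
  obtain ⟨g, hg, -⟩ := (MulAction.is_two_pretransitive_iff.1 h2) hne hne.symm
  haveI : FaithfulSMul G (Projectivization F (Fin 2 → F)) :=
    faithful_of_ne (g := g) fun e => hne (e.symm.trans hg)
  exact hno _ h2

/-- The theorem, given the two clauses. -/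
theorem card_eq_of (hna : ¬ IsMulCommutative G) (T : Sylow 2 G)
    (hT : IsMulCommutative (T : Subgroup G)) (hno : NoTwoTrans G)
    (hBig : AllAb.BigClause G) (hW : Walter3.CentClause G) : Nat.card G = 175560 := by
  classical
  haveI : Fact (Nat.Prime 2) := ⟨Nat.prime_two⟩
  haveI := hT
  have fin : AllAb.AllAbConcl G → Nat.card G = 175560 := by
    rintro (h | ⟨F, i, j, -, -, ⟨f⟩⟩)
    · exact J1Weak.card_of_isoJ1 h
    · exact (false_of_psl hno f).elim
  by_cases hbig : 16 ≤ Nat.card (T : Subgroup G) ∨ ∃ x ∈ (T : Subgroup G), x * x ≠ 1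
  · obtain ⟨a, F, i, j, -, -, ⟨f⟩⟩ := hBig T hT hbig
    exact (false_of_psl hno f).elim
  push Not at hbig
  obtain ⟨hlt, helem⟩ := hbig
  have hel : IsElementaryAbelian 2 (T : Subgroup G) := ⟨hT, fun y hy => by rw [pow_two]; exact helem y hy⟩
  by_cases hC : ∀ t : G, orderOf t = 2 → Group.IsSolvable ↥(centralizer ({t} : Set G))
  · exact fin (AllAb.of_solvable hna T hT hC)
  push Not at hC
  obtain ⟨t, ht, hns⟩ := hC
  -- the Sylow subgroup through `t`
  obtain ⟨P, hP⟩ := (IsPGroup.of_card (n := 1) (by rw [Nat.card_zpowers, ht, pow_one]) :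
    IsPGroup 2 (zpowers t)).exists_le_sylow
  have htP : t ∈ (P : Subgroup G) := hP (mem_zpowers t)
  obtain ⟨g, hg⟩ := MulAction.exists_smul_eq G P T
  have hPT : Nat.card (P : Subgroup G) = Nat.card (T : Subgroup G) := by
    rw [P.card_eq_multiplicity, T.card_eq_multiplicity]
  have hPmem : ∀ x ∈ (P : Subgroup G), g * x * g⁻¹ ∈ (T : Subgroup G) := fun x hx => by
    rw [← hg, Sylow.coe_subgroup_smul]
    exact ⟨x, hx, rfl⟩
  haveI hPc : IsMulCommutative (P : Subgroup G) := ⟨⟨fun a b => Subtype.ext (by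
    have h := congrArg Subtype.val (hT.is_comm.comm (⟨_, hPmem a a.2⟩ : (T : Subgroup G))
      ⟨_, hPmem b b.2⟩)
    simp only [Subgroup.coe_mul] at h ⊢
    refine mul_left_cancel (a := g) (mul_right_cancel (b := g⁻¹) ?_)
    calc g * ((a : G) * b) * g⁻¹ = g * a * g⁻¹ * (g * b * g⁻¹) := by group
      _ = g * b * g⁻¹ * (g * a * g⁻¹) := h
      _ = g * ((b : G) * a) * g⁻¹ := by group)⟩⟩
  have hPel : IsElementaryAbelian 2 (P : Subgroup G) := ⟨hPc, fun y hy => by
    have h := helem _ (hPmem y hy)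
    rw [pow_two]
    refine mul_left_cancel (a := g) (mul_right_cancel (b := g⁻¹) ?_)
    calc g * (y * y) * g⁻¹ = g * y * g⁻¹ * (g * y * g⁻¹) := by group
      _ = 1 := h
      _ = g * 1 * g⁻¹ := by group⟩
  have h8 : Nat.card (P : Subgroup G) = 8 := by
    rw [← hPT] at hlt
    obtain ⟨k, hk⟩ := IsPGroup.iff_card.1 P.2
    rw [hk] at hlt ⊢
    have h3 : k = 3 := by
      by_contra hne
      refine hns (AllAb.solvable_cent_of_small P ?_ htP ht)
      rw [hk]
      have hk4 : k < 4 := (Nat.pow_lt_pow_iff_right (by norm_num)).1 (show 2 ^ k < 2 ^ 4 from hlt)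
      exact le_trans (Nat.pow_le_pow_right two_pos (show k ≤ 2 by omega)) (by norm_num)
    rw [h3]; norm_num
  have ht1 : t ≠ 1 := fun h => by rw [h, orderOf_one] at ht; omega
  obtain ⟨k, hk⟩ := E8Cent.seven_dvd_automizer hna h8 hPel
  have h21 := E8Cent.card_automizer_dvd h8 hPel
  rw [hk] at h21
  rcases (Nat.dvd_prime Nat.prime_three).1 (Nat.dvd_of_mul_dvd_mul_left (by norm_num : 0 < 7)
      (show 7 * k ∣ 7 * 3 from h21)) with rfl | rfl
  · exact absurd (Walter3.solvable_of_seven P h8 hPel hk htP ht1) hns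
  obtain ⟨F, i, j, h3, ⟨e⟩⟩ := hW P h8 hPel hk t ht htP hns
  have hab : ∀ Q : Sylow 2 G, ∀ a b : Q, a * b = b * a := fun Q a b => by
    obtain ⟨c, hc⟩ := MulAction.exists_smul_eq G Q P
    have hmem : ∀ x ∈ (Q : Subgroup G), c * x * c⁻¹ ∈ (P : Subgroup G) := fun x hx => by
      rw [← hc, Sylow.coe_subgroup_smul]
      exact ⟨x, hx, rfl⟩
    have h := congrArg Subtype.val (hPc.is_comm.comm (⟨_, hmem a a.2⟩ : (P : Subgroup G))
      ⟨_, hmem b b.2⟩)
    simp only [Subgroup.coe_mul] at h
    refine Subtype.ext ?_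
    show (a : G) * b = b * a
    refine mul_left_cancel (a := c) (mul_right_cancel (b := c⁻¹) ?_)
    calc c * ((a : G) * b) * c⁻¹ = c * a * c⁻¹ * (c * b * c⁻¹) := by group
      _ = c * b * c⁻¹ * (c * a * c⁻¹) := h
      _ = c * ((b : G) * a) * c⁻¹ := by group
  rcases Walter8.main_rows hab h3 t ht e with ⟨m, hm, hF, hord, -, χ, hχ⟩ | ⟨h45, -⟩
  · have hidx : Odd (centralizer ({t} : Set G)).index := by
      have hle : (P : Subgroup G) ≤ centralizer ({t} : Set G) := fun x hx =>
        mem_centralizer_singleton_iff.2 (congrArg Subtype.val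
          (hPc.is_comm.comm (⟨x, hx⟩ : (P : Subgroup G)) ⟨t, htP⟩))
      rw [Nat.odd_iff]
      by_contra h
      exact P.not_dvd_index ((Nat.dvd_of_mod_eq_zero (by omega)).trans (index_dvd_of_le hle))
    obtain ⟨T', ⟨S⟩⟩ := AllAb.exists_setup hm hF ht hidx e
    obtain ⟨H, hH, h2⟩ := exists_two_transitive S hna hord χ hχ
    exact (false_of_quot hno H hH h2).elim
  · obtain ⟨ψ⟩ : Nonempty (ProjectiveSpecialLinearGroup (Fin 2) F ≃* alternatingGroup (Fin 5)) :=
      h45.elim Cfsg.Agent.S0252.result Cfsg.Agent.S0253.result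
    exact J1Weak.card_of_isoJ1
      (Cfsg.Agent.S1644.result P hPc h8 t ht (e.trans ((MulEquiv.refl _).prodCongr ψ)))

end Cfsg.Lib.ReeTwoTrans
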